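import Mathlib

/-! Frames for the 3-local recognition of `Alt(8)` (lead). -/

set_option autoImplicit false

namespace Cfsg.Agent.A8R

open Equiv Subgroup

/-- `(S₃ × S₅)⁺`. -/
abbrev L0 : Subgroup (Perm (Fin 3) × Perm (Fin 5)) :=
  (((Perm.sign).comp (MonoidHom.fst (Perm (Fin 3)) (Perm (Fin 5)))) *
    ((Perm.sign).comp (MonoidHom.snd (Perm (Fin 3)) (Perm (Fin 5))))).ker

def z0 : L0 := ⟨(swap 0 2 * swap 0 1, 1), MonoidHom.mem_ker.2 (by decide +kernel)⟩
def y0 : L0 := ⟨(1, swap 0 2 * swap 0 1), MonoidHom.mem_ker.2 (by decide +kernel)⟩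
def a0 : L0 := ⟨(1, swap 0 1 * swap 3 4), MonoidHom.mem_ker.2 (by decide +kernel)⟩
def b0 : L0 := ⟨(swap 0 1, swap 3 4), MonoidHom.mem_ker.2 (by decide +kernel)⟩
def v0 : L0 := ⟨(1, swap 0 1 * swap 2 3), MonoidHom.mem_ker.2 (by decide +kernel)⟩

/-- The model group. -/
abbrev A8 := alternatingGroup (Fin 8)

def pz : A8 := ⟨swap 0 2 * swap 0 1, Perm.mem_alternatingGroup.2 (by decide +kernel)⟩
def py : A8 := ⟨swap 3 5 * swap 3 4, Perm.mem_alternatingGroup.2 (by decide +kernel)⟩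
def pa : A8 := ⟨swap 3 4 * swap 6 7, Perm.mem_alternatingGroup.2 (by decide +kernel)⟩
def pb : A8 := ⟨swap 0 1 * swap 6 7, Perm.mem_alternatingGroup.2 (by decide +kernel)⟩
def pv : A8 := ⟨swap 3 4 * swap 5 6, Perm.mem_alternatingGroup.2 (by decide +kernel)⟩
def pv2 : A8 := ⟨swap 4 5 * swap 3 6, Perm.mem_alternatingGroup.2 (by decide +kernel)⟩
def pw : A8 := ⟨swap 0 1 * swap 2 7, Perm.mem_alternatingGroup.2 (by decide +kernel)⟩
def pw2 : A8 := ⟨swap 1 2 * swap 0 7, Perm.mem_alternatingGroup.2 (by decide +kernel)⟩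
def pt : A8 := ⟨swap 0 3 * swap 1 4 * swap 2 5 * swap 6 7, Perm.mem_alternatingGroup.2 (by decide +kernel)⟩
/-- The 2-central involution of the 2⁴ generated by `pv pv2 pw pw2`. -/
def pe : A8 := pv * pw

theorem pv2_eq : py * pv * py⁻¹ = pv2 := by decide +kernel
theorem pw2_eq : pz * pw * pz⁻¹ = pw2 := by decide +kernel
theorem pt_pz : pt * pz * pt⁻¹ = py := by decide +kernel

variable {G : Type*} [Group G]

/-- A presentation of `(S₃ × S₅)⁺`. -/
structure Sd (z y a b v : G) : Prop where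
  z3 : z ^ 3 = 1
  y3 : y ^ 3 = 1
  aa : a * a = 1
  bb : b * b = 1
  vv : v * v = 1
  zy : z * y = y * z
  za : z * a = a * z
  zv : z * v = v * z
  bz : b * z * b * z = 1
  ay : a * y * a * y = 1
  yb : y * b = b * y
  ab : a * b = b * a
  yv : (y * v) ^ 3 = 1
  av : (a * v) ^ 3 = 1
  yav : (y * a * v) ^ 5 = 1
  abv : (a * b * v) ^ 2 = 1
  bv : (b * v) ^ 6 = 1

theorem sd0 : Sd z0 y0 a0 b0 v0 := by constructor <;> decide +kernel
theorem sd0' : Sd z0 y0 a0 b0 (a0 * v0 * a0) := by constructor <;> decide +kernel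
theorem sdp : Sd pz py pa pb pv := by constructor <;> decide +kernel
theorem sdp' : Sd py pz pb pa pw := by constructor <;> decide +kernel

theorem Sd.map {K : Type*} [Group K] {z y a b v : G} (h : Sd z y a b v) (f : G →* K) :
    Sd (f z) (f y) (f a) (f b) (f v) := by
  constructor <;> simp only [← map_mul, ← map_pow] <;>
    first
    | (rw [← map_one f]; congr 1; first | exact h.z3 | exact h.y3 | exact h.aa | exact h.bb | exact h.vv | exact h.bz | exact h.ay | exact h.yv | exact h.av | exact h.yav | exact h.abv | exact h.bv)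
    | (congr 1; first | exact h.zy | exact h.za | exact h.zv | exact h.yb | exact h.ab)

/-- First frame. -/
structure F1 (ψ : L0 →* G) (t : G) : Prop where
  inj : Function.Injective ψ
  nz : ∀ g : G, g * ψ z0 * g⁻¹ ∈ zpowers (ψ z0) → g ∈ ψ.range
  tt : t * t = 1
  tz : t * ψ z0 * t⁻¹ = ψ y0
  ta : t * ψ a0 * t⁻¹ = ψ b0
  ny : ∀ g : G, g * ψ (z0 * y0) * g⁻¹ ∈ zpowers (ψ (z0 * y0)) →
    g * ψ z0 * g⁻¹ ∈ zpowers (ψ z0) ∨ g * ψ z0 * g⁻¹ ∈ zpowers (ψ y0)
  hy : ¬ 4 ∣ Nat.card (centralizer ({ψ (z0 * y0)} : Set G))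
  h9 : ∀ i : G, orderOf i = 2 → ¬ 9 ∣ Nat.card (centralizer ({i} : Set G))

/-- Second frame. -/
structure F2 (φ : A8 →* G) : Prop where
  inj : Function.Injective φ
  n3 : ∀ x : A8, orderOf x = 3 → ∀ g : G, g * φ x * g⁻¹ ∈ zpowers (φ x) → g ∈ φ.range
  h9 : ∀ i : G, orderOf i = 2 → ¬ 9 ∣ Nat.card (centralizer ({i} : Set G))
  nc : ¬ IsConj (φ pt) (φ pv)

/-- Has a fixed point. -/
def fp (i : A8) : Prop := ∃ x : Fin 8, i.1 x = x

instance a8r_decFp (i : A8) : Decidable (fp i) := by unfold fp; infer_instance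

/-- The 2⁴. -/
def E0 : Subgroup A8 := closure {pv, pv2, pw, pw2}

end Cfsg.Agent.A8R
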