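import Cfsg.Agent.A8R.A
import Cfsg.Agent.S0058

/-! 3-local recognition of `Alt(8)`: Burnside complement with coprime generation (`cv`, `gen2`). -/

set_option autoImplicit false

namespace Cfsg.Agent.A8R

open Subgroup

variable {G : Type*} [Group G] [Finite G]

theorem genp {p : ℕ} (hp : p.Prime) {e f : G} {R K : Subgroup G} (oe : orderOf e = p) (fp : f ^ p = 1)
    (ef : Commute e f) (hf : f ∉ zpowers e) (hR : ¬ p ∣ Nat.card R) (ne : ∀ r ∈ R, e * r * e⁻¹ ∈ R)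
    (nf : ∀ r ∈ R, f * r * f⁻¹ ∈ R)
    (hK : ∀ i < p, ∀ j < p, e ^ i * f ^ j ≠ 1 → ∀ r ∈ R, r * (e ^ i * f ^ j) = e ^ i * f ^ j * r → r ∈ K) :
    R ≤ K := by
  haveI := Fact.mk hp
  have ep : e ^ p = 1 := oe ▸ pow_orderOf_eq_one e
  have cm : ∀ i j k l : ℕ, e ^ i * f ^ j * (e ^ k * f ^ l) = e ^ (i + k) * f ^ (j + l) := fun i j k l => by
    rw [pow_add, pow_add, mul_assoc, mul_assoc, ← mul_assoc (f ^ j), ← (ef.pow_pow k j).eq, mul_assoc]
  have pw : ∀ i j : ℕ, (e ^ i * f ^ j) ^ p = 1 := fun i j => by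
    rw [(ef.pow_pow i j).mul_pow, ← pow_mul, ← pow_mul, mul_comm i, mul_comm j, pow_mul, pow_mul, ep, fp]
    simp
  let A : Subgroup G :=
    { carrier := {g | ∃ i j : ℕ, g = e ^ i * f ^ j}
      mul_mem' := by
        rintro _ _ ⟨i, j, rfl⟩ ⟨k, l, rfl⟩
        exact ⟨_, _, cm i j k l⟩
      one_mem' := ⟨0, 0, by simp⟩
      inv_mem' := by
        rintro _ ⟨i, j, rfl⟩
        refine ⟨i * (p - 1), j * (p - 1), ?_⟩
        rw [pow_mul, pow_mul, ← (ef.pow_pow i j).mul_pow, inv_eq_iff_mul_eq_one, ← pow_succ',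
          Nat.sub_add_cancel hp.one_le, pw] }
  haveI : IsMulCommutative A := ⟨⟨by
    rintro ⟨_, i, j, rfl⟩ ⟨_, k, l, rfl⟩
    exact Subtype.ext (show e ^ i * f ^ j * (e ^ k * f ^ l) = e ^ k * f ^ l * (e ^ i * f ^ j) by
      rw [cm, cm, add_comm i, add_comm j])⟩⟩
  have pA : ∀ a : A, a ^ p = 1 := by
    rintro ⟨_, i, j, rfl⟩
    exact Subtype.ext (pw i j)
  have nc : ¬ IsCyclic A := fun hc => by
    obtain ⟨g, hg⟩ := hc.exists_generator
    have h1 : Nat.card A ≤ p := by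
      rw [← orderOf_eq_card_of_forall_mem_zpowers hg]
      exact Nat.le_of_dvd hp.pos (orderOf_dvd_of_pow_eq_one (pA g))
    have h2 : zpowers e ≤ A := zpowers_le.2 ⟨1, 0, by simp⟩
    have h3 : zpowers e = A := eq_of_le_of_card_ge h2 (by rwa [Nat.card_zpowers, oe])
    exact hf (h3 ▸ ⟨0, 1, by simp⟩)
  have nm : ∀ g : G, (∀ r ∈ R, g * r * g⁻¹ ∈ R) → g ∈ normalizer (R : Set G) := fun g hg =>
    mem_normalizer_fintype (S := (R : Set G)) hg
  have hA : A ≤ normalizer (R : Set G) := by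
    rintro _ ⟨i, j, rfl⟩
    exact mul_mem (pow_mem (nm e ne) i) (pow_mem (nm f nf) j)
  obtain ⟨k, hk⟩ := IsPGroup.exists_card_eq (p := p) (G := A) fun a => ⟨1, by rw [pow_one, pA]⟩
  rw [← S0058.result A R nc hA (hk ▸ (hp.coprime_iff_not_dvd.2 hR).pow_left k)]
  refine iSup₂_le ?_
  rintro _ ⟨⟨i, j, rfl⟩, h1⟩ r hr
  have e1 : e ^ i * f ^ j = e ^ (i % p) * f ^ (j % p) := by
    rw [← pow_eq_pow_mod i ep, ← pow_eq_pow_mod j fp]
  rw [e1] at h1 hr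
  exact hK _ (Nat.mod_lt _ hp.pos) _ (Nat.mod_lt _ hp.pos) h1 r hr.1 (mem_centralizer_singleton_iff.1 hr.2)

theorem gen2 {e f : G} {O K : Subgroup G} (e2 : e*e=1) (f2 : f*f=1) (ef : Commute e f) (e1 : e ≠ 1)
    (f1 : f ≠ 1) (ne : e ≠ f) (hO : Odd (Nat.card O)) (he : ∀ r ∈ O, e*r*e⁻¹ ∈ O)
    (hf : ∀ r ∈ O, f*r*f⁻¹ ∈ O) (k1 : ∀ r ∈ O, r*e = e*r → r ∈ K) (k2 : ∀ r ∈ O, r*f = f*r → r ∈ K)
    (k3 : ∀ r ∈ O, r*(e*f) = e*f*r → r ∈ K) : O ≤ K := by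
  have oe : orderOf e = 2 := orderOf_eq_prime (by rw [sq, e2]) e1
  refine genp Nat.prime_two oe (by rw [sq, f2]) ef (fun h => ?_) hO.not_two_dvd_nat he hf ?_
  · obtain ⟨k, hk⟩ := mem_powers_iff_mem_zpowers.2 h
    have hk' : e ^ (k % 2) = f := by rw [← pow_eq_pow_mod k (by rw [sq, e2])]; exact hk
    rcases Nat.mod_two_eq_zero_or_one k with h | h <;> rw [h] at hk'
    · exact f1 (by rw [← hk', pow_zero])
    · exact ne (by rw [← hk', pow_one])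
  · intro i hi j hj h1 r hr h
    interval_cases i <;> interval_cases j <;> simp only [pow_zero, pow_one, mul_one, one_mul] at h1 h
    · exact absurd rfl h1
    · exact k2 r hr h
    · exact k1 r hr h
    · exact k3 r hr h

theorem cv {z y : G} {C : Subgroup G} (hz : orderOf z = 3) (hy : orderOf y = 3) (zy : Commute z y)
    (hyz : y ∉ zpowers z) (hzC : z ∈ C) (hyC : ∀ g ∈ C, y * g * y⁻¹ ∈ C) (h9 : ¬ 9 ∣ Nat.card C)
    (hn : ∀ g ∈ C, g * z * g⁻¹ ∈ zpowers z → g * z = z * g) :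
    ∃ R : Subgroup G, R ≤ C ∧ ¬ 3 ∣ Nat.card R ∧ (∀ r ∈ R, z * r * z⁻¹ ∈ R) ∧ (∀ r ∈ R, y * r * y⁻¹ ∈ R) ∧
      (∀ g ∈ C, ∃ r ∈ R, ∃ k : ℕ, g = r * z ^ k) ∧ ∀ K : Subgroup G, (∀ r ∈ R, r * z = z * r → r ∈ K) →
      (∀ r ∈ R, r * y = y * r → r ∈ K) → (∀ r ∈ R, r * (z*y) = z*y*r → r ∈ K) →
      (∀ r ∈ R, r * (z*y⁻¹) = z*y⁻¹*r → r ∈ K) → R ≤ K := by
  haveI := Fact.mk Nat.prime_three
  have oz : orderOf (⟨z, hzC⟩ : C) = 3 := by rw [← orderOf_coe, hz]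
  have cz : Nat.card (zpowers (⟨z, hzC⟩ : C)) = 3 := by rw [Nat.card_zpowers, oz]
  obtain ⟨P, hP⟩ := (IsPGroup.of_card (n := 1) (by rw [cz, pow_one]) :
    IsPGroup 3 (zpowers (⟨z, hzC⟩ : C))).exists_le_sylow
  have eP : zpowers (⟨z, hzC⟩ : C) = P := by
    obtain ⟨k, hk⟩ := P.2.exists_card_eq
    refine eq_of_le_of_card_ge hP ?_
    rw [cz]
    change Nat.card P ≤ 3
    have h1 : 3 ^ k ∣ Nat.card C := hk ▸ (P : Subgroup C).card_subgroup_dvd_card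
    rw [show Nat.card P = 3 ^ k from hk]
    rcases k with _ | _ | k
    · simp
    · simp
    · exact absurd ((show 9 ∣ 3 ^ (k + 1 + 1) from ⟨3 ^ k, by ring⟩).trans h1) h9
  have hN : normalizer ((P : Subgroup C) : Set C) ≤ centralizer ((P : Subgroup C) : Set C) := by
    rw [← eP]
    intro g hg
    obtain ⟨k, hk⟩ := (mem_normalizer_iff.1 hg ⟨z, hzC⟩).1 (mem_zpowers _)
    have h1 : Commute g ⟨z, hzC⟩ := Subtype.ext (hn g g.2 ⟨k, congrArg Subtype.val hk⟩)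
    rintro _ ⟨m, rfl⟩
    exact (h1.zpow_right m).symm.eq
  have hc := MonoidHom.ker_transferSylow_isComplement' P hN
  have h3 := MonoidHom.not_dvd_card_ker_transferSylow P hN
  set R := (MonoidHom.transferSylow P hN).ker.map C.subtype with hR
  have c3 : ¬ 3 ∣ Nat.card R := by rwa [hR, card_map_of_injective C.subtype_injective]
  have nm : ∀ x : G, (∀ g ∈ C, x * g * x⁻¹ ∈ C) → ∀ r ∈ R, x * r * x⁻¹ ∈ R := by
    intro x hx r hr
    have h1 := hx r (map_subtype_le _ hr)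
    refine ⟨⟨_, h1⟩, ?_, rfl⟩
    have h2 : (x * r * x⁻¹) ^ Nat.card R = 1 := by
      rw [conj_pow, show r ^ Nat.card R = 1 from
        congrArg Subtype.val (pow_card_eq_one' (x := (⟨r, hr⟩ : R))), mul_one, mul_inv_cancel]
    have h4 : MonoidHom.transferSylow P hN ⟨_, h1⟩ ^ Nat.card R = 1 := by
      rw [← map_pow, show (⟨_, h1⟩ : C) ^ Nat.card R = 1 from Subtype.ext h2, map_one]
    have h5 : MonoidHom.transferSylow P hN ⟨_, h1⟩ ^ 3 = 1 := by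
      have h6 : Nat.card (P : Subgroup C) = 3 := eP ▸ cz
      have h7 := pow_card_eq_one' (x := MonoidHom.transferSylow P hN ⟨_, h1⟩)
      rwa [h6] at h7
    exact (pow_eq_one_iff_of_coprime (Nat.prime_three.coprime_iff_not_dvd.2 c3)).1 ⟨h5, h4⟩
  have nz := nm z fun g hg => mul_mem (mul_mem hzC hg) (inv_mem hzC)
  have ny := nm y hyC
  have z3 : z ^ 3 = 1 := hz ▸ pow_orderOf_eq_one z
  have y3 : y ^ 3 = 1 := hy ▸ pow_orderOf_eq_one y
  refine ⟨R, map_subtype_le _, c3, nz, ny, fun g hg => ?_, fun K k1 k2 k3 k4 => ?_⟩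
  · obtain ⟨⟨r, q⟩, e⟩ := hc.2 ⟨g, hg⟩
    obtain ⟨k, hk⟩ := mem_powers_iff_mem_zpowers.2 (show (q : C) ∈ zpowers (⟨z, hzC⟩ : C) from eP.ge q.2)
    refine ⟨_, ⟨r, r.2, rfl⟩, k, ?_⟩
    have h1 : ((r : C) : G) * ((q : C) : G) = g := congrArg Subtype.val e
    have h2 : z ^ k = ((q : C) : G) := congrArg Subtype.val hk
    rw [h2, ← h1]
    rfl
  · have z2 : z ^ 2 = z⁻¹ := eq_inv_of_mul_eq_one_left (by rw [← pow_succ, z3])
    have y2 : y ^ 2 = y⁻¹ := eq_inv_of_mul_eq_one_left (by rw [← pow_succ, y3])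
    have iv : ∀ {r w : G}, r * w⁻¹ = w⁻¹ * r → r * w = w * r := fun h => (Commute.inv_right_iff.1 h).eq
    refine genp Nat.prime_three hz y3 zy hyz c3 nz ny ?_
    intro i hi j hj h1 r hr h
    interval_cases i <;> interval_cases j <;> simp only [pow_zero, pow_one, mul_one, one_mul, z2, y2] at h1 h
    · exact absurd rfl h1
    · exact k2 r hr h
    · exact k2 r hr (iv h)
    · exact k1 r hr h
    · exact k3 r hr h
    · exact k4 r hr h
    · exact k1 r hr (iv h)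
    · exact k4 r hr (iv (by rwa [mul_inv_rev, inv_inv, ← zy.inv_left.eq]))
    · exact k3 r hr (iv (by rwa [mul_inv_rev, ← zy.inv_inv.eq]))

end Cfsg.Agent.A8R
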