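import Cfsg.Agent.A8R.A

/-! 3-local recognition of `Alt(8)`: non-fusion of involutions and the classes of `Alt(8)` of prime order 2, 3. -/

set_option autoImplicit false
set_option linter.unusedSectionVars false

namespace Cfsg.Agent.A8R

open Equiv Subgroup

variable {G : Type*} [Group G] [Finite G]

theorem pn_syl {z y : G} (hz : orderOf z = 3) (hy : orderOf y = 3) (h9 : ¬ 9 ∣ Nat.card G) :
    ∃ c : G, zpowers (c * z * c⁻¹) = zpowers y := by
  have := Fact.mk Nat.prime_three
  have key : ∀ {x : G}, orderOf x = 3 → ∃ P : Sylow 3 G, (P : Subgroup G) = zpowers x := fun {x} hx => by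
    have h1 : Nat.card (zpowers x) = 3 := by rw [Nat.card_zpowers, hx]
    obtain ⟨P, hP⟩ := (IsPGroup.of_card (p := 3) (n := 1) (G := zpowers x) (by rw [h1, pow_one])).exists_le_sylow
    obtain ⟨n, hn⟩ := IsPGroup.iff_card.1 P.2
    refine ⟨P, (eq_of_le_of_card_ge hP ?_).symm⟩
    rw [h1, hn]
    rcases n with _ | _ | n
    · norm_num
    · norm_num
    · exact absurd ((Dvd.intro_left (3 ^ n) (by ring)).trans (hn ▸ card_subgroup_dvd_card (P : Subgroup G))) h9
  obtain ⟨P, hP⟩ := key hz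
  obtain ⟨Q, hQ⟩ := key hy
  obtain ⟨c, rfl⟩ := MulAction.exists_smul_eq G P Q
  refine ⟨c, ?_⟩
  rw [← hQ, Sylow.coe_subgroup_smul, hP]
  exact (MonoidHom.map_zpowers (MulAut.conj c).toMonoidHom z).symm

theorem pn_card (c z : G) : Nat.card (centralizer ({c * z * c⁻¹} : Set G)) = Nat.card (centralizer ({z} : Set G)) := by
  refine (Nat.card_congr (((MulAut.conj c).subgroupMap (centralizer ({z} : Set G))).toEquiv)).symm ▸ ?_
  congr 2
  ext x
  simp only [mem_centralizer_singleton_iff, mem_map]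
  constructor
  · intro h
    refine ⟨c⁻¹ * x * c, ?_, by simp [mul_assoc]⟩
    calc c⁻¹ * x * c * z = c⁻¹ * (x * (c * z * c⁻¹)) * c := by group
      _ = _ := by rw [h]; group
  · rintro ⟨w, hw, rfl⟩
    show c * w * c⁻¹ * (c * z * c⁻¹) = c * z * c⁻¹ * (c * w * c⁻¹)
    calc c * w * c⁻¹ * (c * z * c⁻¹) = c * (w * z) * c⁻¹ := by group
      _ = _ := by rw [hw]; group

theorem nc {z y t v : G} (hz : orderOf z = 3) (hy : orderOf y = 3) (hv : orderOf v = 2) (c1 : Commute z v)
    (c2 : Commute y t) (h9 : ∀ i : G, orderOf i = 2 → ¬ 9 ∣ Nat.card (centralizer ({i} : Set G)))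
    (h4 : 4 ∣ Nat.card (centralizer ({z} : Set G))) (h4' : ¬ 4 ∣ Nat.card (centralizer ({y} : Set G))) :
    ¬ IsConj t v := by
  intro hc
  obtain ⟨g, rfl⟩ := isConj_iff.1 hc
  have m1 : z ∈ centralizer ({g * t * g⁻¹} : Set G) := mem_centralizer_singleton_iff.2 c1.eq
  have m2 : g * y * g⁻¹ ∈ centralizer ({g * t * g⁻¹} : Set G) := mem_centralizer_singleton_iff.2 (by
    calc g * y * g⁻¹ * (g * t * g⁻¹) = g * (y * t) * g⁻¹ := by group
      _ = _ := by rw [c2.eq]; group)
  obtain ⟨c, e⟩ := pn_syl (z := (⟨_, m1⟩ : centralizer _)) (y := ⟨_, m2⟩) (by rw [← hz, orderOf_mk])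
    (by rw [orderOf_mk, ← hy]; exact (MulAut.conj g).orderOf_eq y) (h9 _ hv)
  have e' := congrArg (Subgroup.map (centralizer ({g * t * g⁻¹} : Set G)).subtype) e
  rw [MonoidHom.map_zpowers, MonoidHom.map_zpowers, zpowers_eq_closure, zpowers_eq_closure] at e'
  have e2 := congrArg (fun K : Subgroup G => centralizer (K : Set G)) e'
  simp only [centralizer_closure] at e2
  refine h4' ?_
  rw [← pn_card g y, ← pn_card (c : G) z] at *
  exact e2 ▸ h4

theorem pn_conj {σ τ : Perm (Fin 8)} {p : ℕ} (hp : p.Prime) (h1 : orderOf σ = p) (h2 : orderOf τ = p)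
    (h : σ.support.card = τ.support.card) : IsConj σ τ := by
  obtain ⟨n, hn⟩ := Perm.cycleType_prime_order (h1 ▸ hp)
  obtain ⟨m, hm⟩ := Perm.cycleType_prime_order (h2 ▸ hp)
  rw [← Perm.sum_cycleType, ← Perm.sum_cycleType, hn, hm, Multiset.sum_replicate, Multiset.sum_replicate, h1, h2,
    smul_eq_mul, smul_eq_mul] at h
  rw [Perm.isConj_iff_cycleType_eq, hn, hm, h1, h2, Nat.eq_of_mul_eq_mul_right hp.pos h]

theorem pn_ord {x : A8} {p : ℕ} (hp : p.Prime) (h1 : x ^ p = 1) (h2 : x ≠ 1) : orderOf x.1 = p := by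
  have := Fact.mk hp
  rw [Subgroup.orderOf_coe, orderOf_eq_prime h1 h2]

theorem cls (i : A8) (hi : orderOf i = 2) : (fp i ∧ IsConj i pv) ∨ (¬ fp i ∧ IsConj i pt) := by
  have h1 : orderOf i.1 = 2 := by rw [Subgroup.orderOf_coe, hi]
  obtain ⟨n, hn⟩ := Perm.cycleType_prime_order (h1 ▸ Nat.prime_two)
  have h2 := Perm.sum_cycleType i.1
  have h3 := Perm.sign_of_cycleType i.1
  have h4 : i.1.support.card ≤ 8 := (Finset.card_le_univ _).trans (by simp)
  rw [hn, Multiset.sum_replicate, h1, smul_eq_mul] at h2 h3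
  rw [Perm.mem_alternatingGroup.1 i.2, Multiset.card_replicate] at h3
  have h5 : n = 1 ∨ n = 3 := by
    have : n ≤ 3 := by omega
    interval_cases n <;> first | decide | exact absurd h3 (by decide)
  rcases h5 with rfl | rfl
  · refine Or.inl ⟨?_, alternatingGroup.isConj_of (pn_conj Nat.prime_two h1
      (pn_ord Nat.prime_two (by decide +kernel) (by decide +kernel)) (h2.symm.trans (by decide +kernel)))
        (by rw [← h2]; simp)⟩
    by_contra hf
    have : i.1.support = Finset.univ := Finset.eq_univ_iff_forall.2 fun x => Perm.mem_support.2 fun e => hf ⟨x, e⟩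
    rw [this] at h2
    simp at h2
  · refine Or.inr ⟨fun ⟨x, e⟩ => ?_, ?_⟩
    · exact Perm.mem_support.1 (Finset.eq_univ_of_card _ (by rw [← h2]; simp) ▸ Finset.mem_univ x) e
    obtain ⟨π, e⟩ := isConj_iff.1 (pn_conj Nat.prime_two h1 (pn_ord (x := pt) Nat.prime_two (by decide +kernel)
      (by decide +kernel)) (h2.symm.trans (by decide +kernel)))
    rcases Int.units_eq_one_or (Perm.sign π) with h | h
    · exact isConj_iff.2 ⟨⟨π, Perm.mem_alternatingGroup.2 h⟩, Subtype.ext e⟩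
    · refine isConj_iff.2 ⟨⟨swap 6 7 * π, Perm.mem_alternatingGroup.2 ?_⟩, Subtype.ext ?_⟩
      · rw [map_mul, h, Perm.sign_swap (by decide)]
        decide
      · show swap 6 7 * π * i.1 * (swap 6 7 * π)⁻¹ = pt.1
        calc swap 6 7 * π * i.1 * (swap 6 7 * π)⁻¹ = swap 6 7 * (π * i.1 * π⁻¹) * (swap 6 7)⁻¹ := by group
          _ = _ := by rw [e]; decide +kernel

theorem cls3 (x : A8) (hx : orderOf x = 3) : IsConj x pz ∨ IsConj x (pz * py) := by
  have h1 : orderOf x.1 = 3 := by rw [Subgroup.orderOf_coe, hx]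
  obtain ⟨n, hn⟩ := Perm.cycleType_prime_order (h1 ▸ Nat.prime_three)
  have h2 := Perm.sum_cycleType x.1
  have h4 : x.1.support.card ≤ 8 := (Finset.card_le_univ _).trans (by simp)
  rw [hn, Multiset.sum_replicate, h1, smul_eq_mul] at h2
  have h5 : n = 0 ∨ n = 1 := by omega
  rcases h5 with rfl | rfl
  · exact Or.inl (alternatingGroup.isConj_of (pn_conj Nat.prime_three h1
      (pn_ord Nat.prime_three (by decide +kernel) (by decide +kernel)) (h2.symm.trans (by decide +kernel)))
        (by rw [← h2]; simp))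
  · exact Or.inr (alternatingGroup.isConj_of (pn_conj Nat.prime_three h1
      (pn_ord Nat.prime_three (by decide +kernel) (by decide +kernel)) (h2.symm.trans (by decide +kernel)))
        (by rw [← h2]; simp))

theorem F2.nf {φ : A8 →* G} (h : F2 φ) {i j : A8} (hi : orderOf i = 2) (hj : orderOf j = 2)
    (c : IsConj (φ i) (φ j)) : fp i ↔ fp j := by
  rcases cls i hi with ⟨a, b⟩ | ⟨a, b⟩ <;> rcases cls j hj with ⟨a', b'⟩ | ⟨a', b'⟩
  · exact iff_of_true a a'
  · exact absurd (((φ.map_isConj b').symm.trans c.symm).trans (φ.map_isConj b)) h.nc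
  · exact absurd (((φ.map_isConj b).symm.trans c).trans (φ.map_isConj b')) h.nc
  · exact iff_of_false a a'

end Cfsg.Agent.A8R
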