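import Cfsg.Agent.A8R.PB0

set_option autoImplicit false
set_option linter.style.haveILetI false

namespace Cfsg.Agent.A8R

open Equiv Subgroup

namespace PE1x

def FA (a b c : Fin 8) : Fin 8 → Fin 8 := fun i =>
  if i = 0 then a else if i = pz.1 0 then pz.1 a else if i = pz.1 (pz.1 0) then pz.1 (pz.1 a) else
  if i = 3 then b else if i = pv.1 3 then pv.1 b else if i = pv2.1 3 then pv2.1 b else
  if i = pv.1 (pv2.1 3) then pv.1 (pv2.1 b) else c

theorem FA_dec : ∀ a b c : Fin 8, (∀ i j, FA a b c i = FA a b c j → i = j) →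
    ∃ k : Fin 3, ∃ l m : Fin 2, ∀ i, FA a b c i = (pz ^ k.1 * pv ^ l.1 * pv2 ^ m.1).1 i := by
  decide +kernel

theorem FA_cases : ∀ i : Fin 8, i = 0 ∨ i = pz.1 0 ∨ i = pz.1 (pz.1 0) ∨ i = 3 ∨ i = pv.1 3 ∨
    i = pv2.1 3 ∨ i = pv.1 (pv2.1 3) ∨ i = 7 := by decide +kernel

theorem FA_val (a b c : Fin 8) : FA a b c 0 = a ∧ FA a b c (pz.1 0) = pz.1 a ∧
    FA a b c (pz.1 (pz.1 0)) = pz.1 (pz.1 a) ∧ FA a b c 3 = b ∧ FA a b c (pv.1 3) = pv.1 b ∧
    FA a b c (pv2.1 3) = pv2.1 b ∧ FA a b c (pv.1 (pv2.1 3)) = pv.1 (pv2.1 b) ∧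
    FA a b c 7 = c := by
  revert a b c; decide +kernel

theorem app {s t : Perm (Fin 8)} (h : s * t = t * s) (i : Fin 8) : s (t i) = t (s i) := by
  rw [← Perm.mul_apply, h, Perm.mul_apply]

theorem evenA (s : Perm (Fin 8)) (h1 : s * pz.1 = pz.1 * s) (h2 : s * pv.1 = pv.1 * s)
    (h3 : s * pv2.1 = pv2.1 * s) : Perm.sign s = 1 := by
  have h : ∀ i, FA (s 0) (s 3) (s 7) i = s i := by
    obtain ⟨v1, v2, v3, v4, v5, v6, v7, v8⟩ := FA_val (s 0) (s 3) (s 7)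
    intro i
    rcases FA_cases i with rfl | rfl | rfl | rfl | rfl | rfl | rfl | rfl
    · exact v1
    · rw [v2, app h1]
    · rw [v3, app h1, app h1]
    · exact v4
    · rw [v5, app h2]
    · rw [v6, app h3]
    · rw [v7, app h2, app h3]
    · exact v8
  obtain ⟨k, l, m, hk⟩ := FA_dec (s 0) (s 3) (s 7) (fun i j hij => by
    rw [h, h] at hij; exact s.injective hij)
  have h4 : s = (pz ^ k.1 * pv ^ l.1 * pv2 ^ m.1).1 := Equiv.ext fun i => by rw [← h, hk]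
  rw [h4]
  exact Perm.mem_alternatingGroup.1 (pz ^ k.1 * pv ^ l.1 * pv2 ^ m.1).2

theorem facts : pz ^ 3 = 1 ∧ pz ≠ 1 ∧ py ^ 3 = 1 ∧ py ≠ 1 ∧ (pz * py) ^ 3 = 1 ∧ pz * py ≠ 1 ∧
    (pz * py⁻¹) ^ 3 = 1 ∧ pz * py⁻¹ ≠ 1 ∧ pz * py = py * pz ∧ py ≠ pz ∧ py ≠ pz ^ 2 ∧
    pz * pv = pv * pz ∧ pz * pv2 = pv2 * pz ∧ py⁻¹ * pv * py = pv * pv2 ∧ py⁻¹ * pv2 * py = pv ∧
    pv ^ 2 = 1 ∧ pv ≠ 1 := by
  refine ⟨?_, ?_, ?_, ?_, ?_, ?_, ?_, ?_, ?_, ?_, ?_, ?_, ?_, ?_, ?_, ?_, ?_⟩ <;> decide +kernel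

theorem facts2 : swap (0 : Fin 8) 1 * pz.1 = (pz ^ 2).1 * swap 0 1 ∧
    swap (0 : Fin 8) 1 * pv.1 = pv.1 * swap 0 1 ∧ swap (0 : Fin 8) 1 * pv2.1 = pv2.1 * swap 0 1 ∧
    pz ^ 2 * pz ^ 2 = pz := by
  refine ⟨?_, ?_, ?_, ?_⟩ <;> decide +kernel

theorem mem3 {G : Type*} [Group G] [Finite G] {z x : G} (hz : orderOf z = 3) (hx : x ∈ zpowers z) :
    x = 1 ∨ x = z ∨ x = z ^ 2 := by
  classical
  rw [mem_zpowers_iff_mem_range_orderOf, hz] at hx
  simp only [Finset.mem_image, Finset.mem_range] at hx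
  obtain ⟨k, hk, rfl⟩ := hx
  interval_cases k <;> simp

theorem hnA (x : A8) (h1 : x * pv = pv * x) (h2 : x * pv2 = pv2 * x)
    (h3 : x * pz * x⁻¹ ∈ zpowers pz) : x * pz = pz * x := by
  haveI : Fact (Nat.Prime 3) := ⟨by norm_num⟩
  rcases mem3 (orderOf_eq_prime facts.1 facts.2.1) h3 with h | h | h
  · exact absurd (by simpa using h) facts.2.1
  · rwa [mul_inv_eq_iff_eq_mul] at h
  · exfalso
    obtain ⟨g1, g2, g3, g4⟩ := facts2
    have h' : x * pz ^ 2 = pz * x := by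
      have : x * pz ^ 2 * x⁻¹ = pz := by rw [← conj_pow, h, sq (pz ^ 2), g4]
      rwa [mul_inv_eq_iff_eq_mul] at this
    have e1 : x.1 * (pz ^ 2).1 = pz.1 * x.1 := by rw [← Subgroup.coe_mul, h', Subgroup.coe_mul]
    have e2 : x.1 * pv.1 = pv.1 * x.1 := by rw [← Subgroup.coe_mul, h1, Subgroup.coe_mul]
    have e3 : x.1 * pv2.1 = pv2.1 * x.1 := by rw [← Subgroup.coe_mul, h2, Subgroup.coe_mul]
    have := evenA (x.1 * swap 0 1) (by rw [mul_assoc, g1, ← mul_assoc, e1, mul_assoc])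
      (by rw [mul_assoc, g2, ← mul_assoc, e2, mul_assoc])
      (by rw [mul_assoc, g3, ← mul_assoc, e3, mul_assoc])
    rw [map_mul, Perm.mem_alternatingGroup.1 x.2, one_mul, Perm.sign_swap (by decide)] at this
    revert this; decide

def FE (a b : Fin 8) : Fin 8 → Fin 8 := fun i =>
  if i = 0 then a else if i = pw.1 0 then pw.1 a else if i = pw2.1 0 then pw2.1 a else
  if i = pw.1 (pw2.1 0) then pw.1 (pw2.1 a) else
  if i = 3 then b else if i = pv.1 3 then pv.1 b else if i = pv2.1 3 then pv2.1 b else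
  pv.1 (pv2.1 b)

theorem FE_dec : ∀ a b : Fin 8, (∀ i j, FE a b i = FE a b j → i = j) →
    ∃ k l m n : Fin 2, ∀ i, FE a b i = (pv ^ k.1 * pv2 ^ l.1 * pw ^ m.1 * pw2 ^ n.1).1 i := by
  decide +kernel

theorem FE_cases : ∀ i : Fin 8, i = 0 ∨ i = pw.1 0 ∨ i = pw2.1 0 ∨ i = pw.1 (pw2.1 0) ∨ i = 3 ∨
    i = pv.1 3 ∨ i = pv2.1 3 ∨ i = pv.1 (pv2.1 3) := by decide +kernel

theorem FE_val (a b : Fin 8) : FE a b 0 = a ∧ FE a b (pw.1 0) = pw.1 a ∧
    FE a b (pw2.1 0) = pw2.1 a ∧ FE a b (pw.1 (pw2.1 0)) = pw.1 (pw2.1 a) ∧ FE a b 3 = b ∧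
    FE a b (pv.1 3) = pv.1 b ∧ FE a b (pv2.1 3) = pv2.1 b ∧
    FE a b (pv.1 (pv2.1 3)) = pv.1 (pv2.1 b) := by
  revert a b; decide +kernel

theorem capp {s t : A8} (h : s * t = t * s) (i : Fin 8) : s.1 (t.1 i) = t.1 (s.1 i) :=
  app (by rw [← Subgroup.coe_mul, h, Subgroup.coe_mul]) i

theorem cEA (s : A8) (h1 : s * pv = pv * s) (h2 : s * pv2 = pv2 * s) (h3 : s * pw = pw * s)
    (h4 : s * pw2 = pw2 * s) : s ∈ E0 := by
  have h : ∀ i, FE (s.1 0) (s.1 3) i = s.1 i := by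
    obtain ⟨v1, v2, v3, v4, v5, v6, v7, v8⟩ := FE_val (s.1 0) (s.1 3)
    intro i
    rcases FE_cases i with rfl | rfl | rfl | rfl | rfl | rfl | rfl | rfl
    · exact v1
    · rw [v2, capp h3]
    · rw [v3, capp h4]
    · rw [v4, capp h3, capp h4]
    · exact v5
    · rw [v6, capp h1]
    · rw [v7, capp h2]
    · rw [v8, capp h1, capp h2]
  obtain ⟨k, l, m, n, hk⟩ := FE_dec (s.1 0) (s.1 3) (fun i j hij => by
    rw [h, h] at hij; exact s.1.injective hij)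
  have h5 : s = pv ^ k.1 * pv2 ^ l.1 * pw ^ m.1 * pw2 ^ n.1 :=
    Subtype.ext (Equiv.ext fun i => by rw [← h, hk])
  rw [h5]
  unfold E0
  refine mul_mem (mul_mem (mul_mem (pow_mem ?_ _) (pow_mem ?_ _)) (pow_mem ?_ _)) (pow_mem ?_ _) <;>
    apply Subgroup.subset_closure <;> simp

/-- `V` as an explicit subgroup. -/
def VA : Subgroup A8 where
  carrier := {x | x = 1 ∨ x = pv ∨ x = pv2 ∨ x = pv * pv2}
  one_mem' := Or.inl rfl
  mul_mem' := by
    rintro a b (rfl | rfl | rfl | rfl) (rfl | rfl | rfl | rfl) <;>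
      simp only [Set.mem_ofPred_eq] <;> decide +kernel
  inv_mem' := by
    rintro a (rfl | rfl | rfl | rfl) <;> simp only [Set.mem_ofPred_eq] <;> decide +kernel

theorem memV {x : A8} (hx : x ∈ closure ({pv, pv2} : Set A8)) :
    x = 1 ∨ x = pv ∨ x = pv2 ∨ x = pv * pv2 := by
  have : closure ({pv, pv2} : Set A8) ≤ VA := by
    rw [closure_le]
    rintro y (rfl | rfl)
    · exact Or.inr (Or.inl rfl)
    · exact Or.inr (Or.inr (Or.inl rfl))
  exact this hx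

def ps : A8 := ⟨swap 3 4 * swap 0 1, Perm.mem_alternatingGroup.2 (by decide +kernel)⟩

theorem s3V {i j : A8} (hi : i = 1 ∨ i = pv ∨ i = pv2 ∨ i = pv * pv2)
    (hj : j = 1 ∨ j = pv ∨ j = pv2 ∨ j = pv * pv2) : i = 1 ∨ j = 1 ∨ i = j ∨
    ∃ k : Fin 3, ∃ l : Fin 2, i * (py ^ k.1 * ps ^ l.1) = (py ^ k.1 * ps ^ l.1) * pv ∧
      j * (py ^ k.1 * ps ^ l.1) = (py ^ k.1 * ps ^ l.1) * pv2 := by
  rcases hi with rfl | rfl | rfl | rfl <;> rcases hj with rfl | rfl | rfl | rfl <;> decide +kernel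

theorem facts3 : pv2 ≠ 1 ∧ pv ≠ pv2 := by constructor <;> decide +kernel

end PE1x

open PE1x

variable {G : Type*} [Group G] [Finite G] {φ : A8 →* G}

theorem F2.cV (h : F2 φ) :
    ∀ g, g * φ pv = φ pv * g → g * φ pv2 = φ pv2 * g → g ∈ φ.range := by
  obtain ⟨f1, f2, f3, f4, f5, f6, f7, f8, f9, f10, f11, f12, f13, f14, f15, f16, f17⟩ := facts
  haveI : Fact (Nat.Prime 3) := ⟨by norm_num⟩
  have oz : orderOf pz = 3 := orderOf_eq_prime f1 f2
  have oy : orderOf py = 3 := orderOf_eq_prime f3 f4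
  have o1 : orderOf (pz * py) = 3 := orderOf_eq_prime f5 f6
  have o2 : orderOf (pz * py⁻¹) = 3 := orderOf_eq_prime f7 f8
  have ov : orderOf pv = 2 := orderOf_eq_prime f16 f17
  set C := centralizer ({φ pv} : Set G) ⊓ centralizer ({φ pv2} : Set G) with hC
  have mC : ∀ g, g ∈ C ↔ g * φ pv = φ pv * g ∧ g * φ pv2 = φ pv2 * g := fun g => by
    rw [hC, mem_inf, mem_centralizer_singleton_iff, mem_centralizer_singleton_iff]
  have rg : ∀ x : A8, orderOf x = 3 → ∀ r : G, r * φ x = φ x * r → r ∈ φ.range :=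
    fun x hx r hr => h.n3 x hx r (by rw [hr, mul_inv_cancel_right]; exact mem_zpowers _)
  obtain ⟨R, -, -, -, -, hR, hK⟩ := cv (z := φ pz) (y := φ py) (C := C)
    ((orderOf_injective φ h.inj _).trans oz) ((orderOf_injective φ h.inj _).trans oy)
    (by show _ * _ = _ * _; rw [← map_mul, f9, map_mul])
    (by
      intro hy
      rcases mem3 ((orderOf_injective φ h.inj _).trans oz) hy with h1 | h1 | h1
      · exact f4 (h.inj (h1.trans (map_one φ).symm))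
      · exact f10 (h.inj h1)
      · exact f11 (h.inj (h1.trans (map_pow φ _ _).symm)))
    ((mC _).2 ⟨by rw [← map_mul, f12, map_mul], by rw [← map_mul, f13, map_mul]⟩)
    (by
      intro g hg
      obtain ⟨h1, h2⟩ := (mC g).1 hg
      have c1 : Commute g (φ pv) := h1
      have c2 : Commute g (φ pv2) := h2
      have e1 : (φ py)⁻¹ * φ pv * φ py = φ pv * φ pv2 := by
        simp only [← map_inv, ← map_mul]; rw [f14]
      have e2 : (φ py)⁻¹ * φ pv2 * φ py = φ pv := by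
        simp only [← map_inv, ← map_mul]; rw [f15]
      refine (mC _).2 ⟨?_, ?_⟩
      · have := (c1.mul_right c2).eq
        rw [← e1] at this
        calc φ py * g * (φ py)⁻¹ * φ pv = φ py * (g * ((φ py)⁻¹ * φ pv * φ py)) * (φ py)⁻¹ := by group
          _ = _ := by rw [this]; group
      · have := c1.eq
        rw [← e2] at this
        calc φ py * g * (φ py)⁻¹ * φ pv2 = φ py * (g * ((φ py)⁻¹ * φ pv2 * φ py)) * (φ py)⁻¹ := by group
          _ = _ := by rw [this]; group)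
    (fun h9 => h.h9 (φ pv) ((orderOf_injective φ h.inj _).trans ov)
      (h9.trans (card_dvd_of_le inf_le_left)))
    (by
      intro g hg hz
      obtain ⟨h1, h2⟩ := (mC g).1 hg
      obtain ⟨x, rfl⟩ := h.n3 pz oz g hz
      rw [← map_mul, ← map_mul]
      refine congrArg φ (hnA x (h.inj (by rw [map_mul, map_mul, h1]))
        (h.inj (by rw [map_mul, map_mul, h2])) ?_)
      obtain ⟨k, hk⟩ := mem_zpowers_iff.1 hz
      exact mem_zpowers_iff.2 ⟨k, h.inj (by rw [map_zpow, hk, map_mul, map_mul, map_inv])⟩)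
  have hRK := hK φ.range (fun r _ hr => rg pz oz r hr) (fun r _ hr => rg py oy r hr)
    (fun r _ hr => rg _ o1 r (by rw [map_mul, hr]))
    (fun r _ hr => rg _ o2 r (by rw [map_mul, map_inv, hr]))
  intro g h1 h2
  obtain ⟨r, hr, k, rfl⟩ := hR g ((mC g).2 ⟨h1, h2⟩)
  exact mul_mem (hRK hr) (pow_mem (MonoidHom.mem_range.2 ⟨pz, rfl⟩) _)

theorem F2.nV (h : F2 φ) : ∀ g, g * φ pv * g⁻¹ ∈ (closure {pv,pv2}).map φ →
    g * φ pv2 * g⁻¹ ∈ (closure {pv,pv2}).map φ → g ∈ φ.range := by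
  rintro g ⟨i, hi, e1⟩ ⟨j, hj, e2⟩
  rcases s3V (memV hi) (memV hj) with rfl | rfl | rfl | ⟨k, l, h1, h2⟩
  · exfalso
    rw [map_one, eq_comm, conj_eq_one_iff] at e1
    exact facts.2.2.2.2.2.2.2.2.2.2.2.2.2.2.2.2 (h.inj (e1.trans (map_one φ).symm))
  · exfalso
    rw [map_one, eq_comm, conj_eq_one_iff] at e2
    exact facts3.1 (h.inj (e2.trans (map_one φ).symm))
  · exfalso
    rw [e1, mul_left_inj, mul_right_inj] at e2
    exact facts3.2 (h.inj e2)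
  · generalize py ^ k.1 * ps ^ l.1 = x at h1 h2
    have a1 := congrArg φ h1
    have a2 := congrArg φ h2
    rw [map_mul, map_mul, e1] at a1
    rw [map_mul, map_mul, e2] at a2
    have := h.cV (g⁻¹ * φ x) (by rw [mul_assoc, ← a1]; group) (by rw [mul_assoc, ← a2]; group)
    have h3 := mul_mem (show φ x ∈ φ.range from ⟨x, rfl⟩) (inv_mem this)
    simpa using h3

theorem F2.cE (h : F2 φ) : ∀ g, (∀ e ∈ E0, g * φ e = φ e * g) → g ∈ E0.map φ := by
  intro g hg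
  have m : ∀ e ∈ ({pv, pv2, pw, pw2} : Set A8), g * φ e = φ e * g :=
    fun e he => hg e (Subgroup.subset_closure he)
  obtain ⟨x, rfl⟩ := h.cV g (m _ (by simp)) (m _ (by simp))
  have m' : ∀ e ∈ ({pv, pv2, pw, pw2} : Set A8), x * e = e * x :=
    fun e he => h.inj (by simpa using m e he)
  exact ⟨x, cEA x (m' _ (by simp)) (m' _ (by simp)) (m' _ (by simp)) (m' _ (by simp)), rfl⟩

end Cfsg.Agent.A8R
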