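import Cfsg.Agent.A8R.PN

set_option autoImplicit false

namespace Cfsg.Agent.A8R

open Equiv Subgroup

variable {G : Type*} [Group G] [Finite G]

theorem pe2x_supp (k : A8) (hk : orderOf k = 2) (hf : fp k) : k.1.support.card = 4 := by
  rcases cls k hk with ⟨_, c⟩ | ⟨n, _⟩
  · obtain ⟨c, hc⟩ := isConj_iff.1 c
    have h1 : c.1 * k.1 * c.1⁻¹ = pv.1 := congrArg Subtype.val hc
    have h2 := Perm.card_support_conj (σ := c.1) (τ := k.1)
    rw [h1] at h2
    rw [← h2]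
    decide +kernel
  · exact absurd hf n

theorem pe2x_four (k : Perm (Fin 8)) (hk : k.support.card = 4) (s : Finset (Fin 8))
    (hs : s.card = 4) (h : ∀ x ∈ s, k x ≠ x) : ∀ x, x ∉ s → k x = x := by
  have : s = k.support :=
    Finset.eq_of_subset_of_card_le (fun x hx => Perm.mem_support.2 (h x hx)) (by omega)
  intro x hx
  by_contra hne
  exact hx (this ▸ Perm.mem_support.2 hne)

theorem pe2x_f3 : ∀ a3 : Fin 8, a3 ≠ 3 → ∀ a4 : Fin 8, a4 ≠ 4 → ∀ a5 : Fin 8, a5 ≠ 5 →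
    ∀ a6 : Fin 8, a6 ≠ 6 →
    (∀ x, (![0, 1, 2, a3, a4, a5, a6, 7] : Fin 8 → Fin 8)
      ((![0, 1, 2, a3, a4, a5, a6, 7] : Fin 8 → Fin 8) x) = x) →
    (∀ x, (![0, 1, 2, a3, a4, a5, a6, 7] : Fin 8 → Fin 8) x = pv.1 x) ∨
    (∀ x, (![0, 1, 2, a3, a4, a5, a6, 7] : Fin 8 → Fin 8) x = pv2.1 x) ∨
    (∀ x, (![0, 1, 2, a3, a4, a5, a6, 7] : Fin 8 → Fin 8) x = (pv * pv2).1 x) := by
  decide +kernel

theorem pe2x_mem {j k : A8} (hj : orderOf j = 2) (hk : orderOf k = 2) (fj : fp j) (fk : fp k)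
    (n1 : ¬ fp (pv * k)) (n2 : ¬ fp (j * k)) : j ∈ closure ({pv, pv2} : Set A8) := by
  have k1 : ∀ x, x ∉ ({0, 1, 2, 7} : Finset (Fin 8)) → k.1 x = x := by
    refine pe2x_four k.1 (pe2x_supp k hk fk) _ (by decide) fun x hx e => n1 ⟨x, ?_⟩
    have : ∀ x ∈ ({0, 1, 2, 7} : Finset (Fin 8)), pv.1 x = x := by decide +kernel
    show pv.1 (k.1 x) = x
    rw [e, this x hx]
  have j0 : ∀ x ∈ ({3, 4, 5, 6} : Finset (Fin 8)), j.1 x ≠ x := by
    intro x hx e
    refine n2 ⟨x, ?_⟩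
    have : ∀ x ∈ ({3, 4, 5, 6} : Finset (Fin 8)), x ∉ ({0, 1, 2, 7} : Finset (Fin 8)) := by decide
    show j.1 (k.1 x) = x
    rw [k1 x (this x hx), e]
  have j1 := pe2x_four j.1 (pe2x_supp j hj fj) _ (by decide) j0
  have e : ∀ x, (![0, 1, 2, j.1 3, j.1 4, j.1 5, j.1 6, 7] : Fin 8 → Fin 8) x = j.1 x := by
    intro x
    fin_cases x
    · exact (j1 0 (by decide)).symm
    · exact (j1 1 (by decide)).symm
    · exact (j1 2 (by decide)).symm
    · rfl
    · rfl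
    · rfl
    · rfl
    · exact (j1 7 (by decide)).symm
  have jj : j * j = 1 := by rw [← pow_two, ← hj, pow_orderOf_eq_one]
  have m1 : pv ∈ closure ({pv, pv2} : Set A8) := subset_closure (by simp)
  have m2 : pv2 ∈ closure ({pv, pv2} : Set A8) := subset_closure (by simp)
  rcases pe2x_f3 _ (j0 3 (by decide)) _ (j0 4 (by decide)) _ (j0 5 (by decide)) _
    (j0 6 (by decide)) (fun x => by
      rw [e, e]
      exact congrArg (fun s : A8 => s.1 x) jj) with h | h | h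
  · have : j = pv := Subtype.ext (Equiv.ext fun x => by rw [← e, h])
    exact this ▸ m1
  · have : j = pv2 := Subtype.ext (Equiv.ext fun x => by rw [← e, h])
    exact this ▸ m2
  · have : j = pv * pv2 := Subtype.ext (Equiv.ext fun x => by rw [← e, h])
    exact this ▸ mul_mem m1 m2

theorem pe2x_ord (x : A8) (h1 : x * x = 1) (h2 : x ≠ 1) : orderOf x = 2 :=
  haveI : Fact (Nat.Prime 2) := ⟨Nat.prime_two⟩
  orderOf_eq_prime (by rw [pow_two, h1]) h2

theorem F2.pe2x_tr {φ : A8 →* G} (h : F2 φ) {g : G} {x i : A8} (hx : orderOf x = 2)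
    (e : φ i = g * φ x * g⁻¹) : orderOf i = 2 ∧ (fp x ↔ fp i) := by
  have o : orderOf i = 2 := by
    rw [← orderOf_injective φ h.inj i, e, ← hx, ← orderOf_injective φ h.inj x]
    exact (SemiconjBy.orderOf_eq g (by simp [SemiconjBy])).symm
  exact ⟨o, h.nf hx o (isConj_iff.2 ⟨g, e.symm⟩)⟩

theorem F2.pe2x_key {φ : A8 →* G} (h : F2 φ)
    (nV : ∀ g, g * φ pv * g⁻¹ ∈ (closure {pv, pv2}).map φ →
      g * φ pv2 * g⁻¹ ∈ (closure {pv, pv2}).map φ → g ∈ φ.range)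
    (g : G) (h1 : g * φ pv * g⁻¹ ∈ φ.range) (h2 : g * φ pv2 * g⁻¹ ∈ φ.range)
    (h3 : g * φ pw * g⁻¹ ∈ φ.range) : g ∈ φ.range := by
  have o1 : orderOf pv = 2 := pe2x_ord _ (by decide +kernel) (by decide +kernel)
  have o2 : orderOf pv2 = 2 := pe2x_ord _ (by decide +kernel) (by decide +kernel)
  have o3 : orderOf pw = 2 := pe2x_ord _ (by decide +kernel) (by decide +kernel)
  have o4 : orderOf (pv * pw) = 2 := pe2x_ord _ (by decide +kernel) (by decide +kernel)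
  have o5 : orderOf (pv2 * pw) = 2 := pe2x_ord _ (by decide +kernel) (by decide +kernel)
  obtain ⟨i, hi⟩ := h1
  obtain ⟨j, hj⟩ := h2
  obtain ⟨k, hk⟩ := h3
  obtain ⟨oi, fi⟩ := h.pe2x_tr o1 hi
  have fi' : fp i := fi.1 (by decide +kernel)
  rcases cls i oi with ⟨_, c⟩ | ⟨n, _⟩
  swap
  · exact absurd fi' n
  obtain ⟨c, hc⟩ := isConj_iff.1 c
  have e1 : φ pv = (φ c * g) * φ pv * (φ c * g)⁻¹ := by
    conv_lhs => rw [← hc]
    simp only [map_mul, map_inv, hi]; group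
  have e2 : φ (c * j * c⁻¹) = (φ c * g) * φ pv2 * (φ c * g)⁻¹ := by
    simp only [map_mul, map_inv, hj]; group
  have e3 : φ (c * k * c⁻¹) = (φ c * g) * φ pw * (φ c * g)⁻¹ := by
    simp only [map_mul, map_inv, hk]; group
  have e4 : φ (pv * (c * k * c⁻¹)) = (φ c * g) * φ (pv * pw) * (φ c * g)⁻¹ := by
    rw [map_mul, e3]
    conv_lhs => rw [e1]
    simp only [map_mul]; group
  have e5 : φ (c * j * c⁻¹ * (c * k * c⁻¹)) = (φ c * g) * φ (pv2 * pw) * (φ c * g)⁻¹ := by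
    rw [map_mul, e3, e2]
    simp only [map_mul]; group
  obtain ⟨oj, fj⟩ := h.pe2x_tr o2 e2
  obtain ⟨ok, fk⟩ := h.pe2x_tr o3 e3
  obtain ⟨-, f4⟩ := h.pe2x_tr o4 e4
  obtain ⟨-, f5⟩ := h.pe2x_tr o5 e5
  have m := pe2x_mem oj ok (fj.1 (by decide +kernel)) (fk.1 (by decide +kernel))
    (fun q => absurd (f4.2 q) (by decide +kernel)) (fun q => absurd (f5.2 q) (by decide +kernel))
  have r := nV (φ c * g) (e1 ▸ ⟨pv, subset_closure (by simp), rfl⟩) (e2 ▸ ⟨_, m, rfl⟩)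
  have : g = (φ c)⁻¹ * (φ c * g) := by group
  rw [this]
  exact mul_mem (inv_mem ⟨c, rfl⟩) r

theorem pe2x_pg {K : Type*} [Group K] (S : Set K) (hc : ∀ x ∈ S, ∀ y ∈ S, x * y = y * x)
    (h2 : ∀ x ∈ S, x * x = 1) : IsPGroup 2 (closure S) := by
  have hc2 : ∀ y ∈ closure S, ∀ x ∈ closure S, x * y = y * x := fun y hy x hx => by
    have h1 : closure S ≤ centralizer S := (closure_le _).2 fun a ha b hb => hc b hb a ha
    have h2 : closure S ≤ centralizer {y} := (closure_le _).2 fun a ha b hb => by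
      rw [hb]; exact (h1 hy a ha).symm
    exact (h2 hx y rfl).symm
  have hm : ∀ x ∈ closure S, x * x = 1 := by
    intro x hx
    induction hx using closure_induction with
    | mem x hx => exact h2 x hx
    | one => exact mul_one 1
    | mul x y mx my hx hy =>
      calc x * y * (x * y) = x * (y * x) * y := by simp only [mul_assoc]
        _ = (x * x) * (y * y) := by rw [hc2 x mx y my]; simp only [mul_assoc]
        _ = 1 := by rw [hx, hy, mul_one]
    | inv x _ hx => rw [← mul_inv_rev, hx, inv_one]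
  exact fun x => ⟨1, Subtype.ext (by simpa [pow_two] using hm x.1 x.2)⟩

theorem F2.syl {φ : A8 →* G} (h : F2 φ)
    (nV : ∀ g, g * φ pv * g⁻¹ ∈ (closure {pv, pv2}).map φ →
      g * φ pv2 * g⁻¹ ∈ (closure {pv, pv2}).map φ → g ∈ φ.range) : ¬ 128 ∣ Nat.card G := by
  haveI : Fact (Nat.Prime 2) := ⟨Nat.prime_two⟩
  intro hd
  have hE : IsPGroup 2 (closure ({pv, pv2, pw} : Set A8)) := by
    refine pe2x_pg _ ?_ ?_
    · rintro x (rfl | rfl | rfl) y (rfl | rfl | rfl) <;> decide +kernel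
    · rintro x (rfl | rfl | rfl) <;> decide +kernel
  obtain ⟨P, hP⟩ := (hE.map φ).exists_le_sylow
  have mP : ∀ x ∈ ({pv, pv2, pw} : Set A8), φ x ∈ (P : Subgroup G) :=
    fun x hx => hP ⟨x, subset_closure hx, rfl⟩
  have hle : (P : Subgroup G) ≤ φ.range := by
    by_contra hn
    haveI : Group.IsNilpotent P := P.2.isNilpotent
    have hlt : φ.range.subgroupOf P < ⊤ := by
      rw [lt_top_iff_ne_top, Ne, subgroupOf_eq_top]
      exact hn
    obtain ⟨g, hg, hg'⟩ := SetLike.exists_of_lt (normalizerCondition_of_isNilpotent _ hlt)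
    have k : ∀ x ∈ ({pv, pv2, pw} : Set A8), g.1 * φ x * g.1⁻¹ ∈ φ.range := fun x hx =>
      (mem_normalizer_iff.1 hg ⟨φ x, mP x hx⟩).1 ⟨x, rfl⟩
    exact hg' (h.pe2x_key nV g.1 (k _ (by simp)) (k _ (by simp)) (k _ (by simp)))
  have c1 : 2 ^ 7 ∣ Nat.card P := P.pow_dvd_card_of_pow_dvd_card (by simpa using hd)
  have c2 := c1.trans (card_dvd_of_le hle)
  rw [← Nat.card_congr (MonoidHom.ofInjective h.inj).toEquiv] at c2
  have c3 := two_mul_nat_card_alternatingGroup (α := Fin 8)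
  rw [Nat.card_perm, Nat.card_eq_fintype_card (α := Fin 8), Fintype.card_fin] at c3
  have c4 : Nat.card A8 = 20160 := by
    have : Nat.factorial 8 = 40320 := by decide
    change 2 * Nat.card A8 = _ at c3
    omega
  rw [c4] at c2
  norm_num at c2

end Cfsg.Agent.A8R
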