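import Cfsg.Agent.A8R.PN
import Cfsg.Agent.A8R.PB0
import Cfsg.Agent.Rec.ZS

/-! The centraliser of a non-2-central involution in the `Alt(8)` frame (helper21). -/

set_option autoImplicit false
set_option linter.unusedSectionVars false

namespace Cfsg.Agent.A8R

open Equiv Subgroup Cfsg.Agent.BG Cfsg.Agent.Rec

variable {G : Type*} [Group G] [Finite G]

theorem pe4_zm' {t z x y : G} (hc : ∀ g, Commute g t) (ht : t * t = 1) (hz : z * z = 1) (h1 : z ≠ 1) (h2 : z ≠ t)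
    (hx : x * x = 1) (hy : y * y = 1)
    (iso : ∀ g, (z * (g * z * g⁻¹) = g * z * g⁻¹ * z ∨ z * (g * z * g⁻¹) = g * z * g⁻¹ * z * t) →
      g * z * g⁻¹ = z ∨ g * z * g⁻¹ = z * t)
    (H : ∀ u, u = x ∨ u = y ∨ u = x * y → ∀ k, k * u * k⁻¹ = u ∨ k * u * k⁻¹ = u * t → k ^ 2 ^ 3 = 1) (g : G) :
    g * z * g⁻¹ = z ∨ g * z * g⁻¹ = z * t := by
  have hN : (Subgroup.zpowers t).Normal := ⟨by
    rintro _ ⟨k, rfl⟩ g
    exact ⟨k, by simp [((hc g).zpow_right k).eq]⟩⟩
  let π := QuotientGroup.mk' (Subgroup.zpowers t)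
  have ht1 : π t = 1 := (QuotientGroup.eq_one_iff _).2 (Subgroup.mem_zpowers t)
  have key : ∀ {a b}, π a = π b ↔ a = b ∨ a = b * t := fun {a b} => by
    refine ⟨fun e => ?_, by rintro (rfl | rfl) <;> simp [ht1]⟩
    obtain ⟨k, e⟩ := QuotientGroup.eq.1 e.symm
    have e : a = b * t ^ k := by simp only [] at e; rw [e]; group
    have h2 : t ^ (2 : ℤ) = 1 := by rw [zpow_two, ht]
    rcases Int.emod_two_eq_zero_or_one k with h | h <;> rw [zpow_eq_zpow_emod k h2, h] at e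
    exacts [.inl (by simpa using e), .inr (by simpa using e)]
  have hK : pPrimeCore 2 (G ⧸ Subgroup.zpowers t) = ⊥ := by
    have H' : ∀ u, u = x ∨ u = y ∨ u = x * y → ∀ k ∈ pPrimeCore 2 (G ⧸ Subgroup.zpowers t), Commute k (π u) → k = 1 :=
      fun u hu k hk c => by
        obtain ⟨k, rfl⟩ := QuotientGroup.mk'_surjective _ k
        refine eq_one_of_odd (odd_core hk) (k := 3) ?_
        rw [← map_pow, H u hu k (key.1 (by rw [map_mul, map_mul, map_inv, mul_inv_eq_iff_eq_mul]; exact c.eq)), map_one]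
    exact bot_of_four (x := π x) (y := π y) (by rw [← map_mul, hx, map_one]) (by rw [← map_mul, hy, map_one])
      (H' x (.inl rfl)) (H' y (.inr (.inl rfl))) (map_mul π x y ▸ H' _ (.inr (.inr rfl)))
  have hi : IsIsolatedInvolution (π z) := by
    refine ⟨orderOf_eq_prime (by rw [sq, ← map_mul, hz, map_one]) fun e => ?_, fun g hg => ?_⟩
    · rcases key.1 (e.trans (map_one π).symm) with e | e
      exacts [h1 e, h2 (by simpa using e)]
    · obtain ⟨g, rfl⟩ := QuotientGroup.mk'_surjective _ g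
      have e2 := key.1 (show π (z * (g * z * g⁻¹)) = π (g * z * g⁻¹ * z) by simpa only [map_mul, map_inv] using hg.eq)
      exact (by simp only [map_mul, map_inv]; rfl : _ = π (g * z * g⁻¹)).trans (key.2 (iso g e2))
  have := Subgroup.mem_center_iff.1 (Block.zstar_center hi hK) (π g)
  exact key.1 (by rw [map_mul, map_mul, map_inv, mul_inv_eq_iff_eq_mul]; exact this)

theorem pe4_zm {t z x y : G} (ht : t * t = 1) (hz : z * z = 1) (h1 : z ≠ 1) (h2 : z ≠ t)
    (hx : x * x = 1) (hy : y * y = 1) (cz : Commute z t) (cx : Commute x t) (cy : Commute y t)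
    (iso : ∀ g, Commute g t → (z * (g * z * g⁻¹) = g * z * g⁻¹ * z ∨ z * (g * z * g⁻¹) = g * z * g⁻¹ * z * t) →
      g * z * g⁻¹ = z ∨ g * z * g⁻¹ = z * t)
    (H : ∀ u, u = x ∨ u = y ∨ u = x * y → ∀ k, Commute k t → k * u * k⁻¹ = u ∨ k * u * k⁻¹ = u * t → k ^ 2 ^ 3 = 1)
    {g : G} (hg : Commute g t) : g * z * g⁻¹ = z ∨ g * z * g⁻¹ = z * t := by
  have m : ∀ {a}, Commute a t → a ∈ C1[t] := fun h => Subgroup.mem_centralizer_singleton_iff.2 h.eq
  have m' : ∀ a : C1[t], Commute a.1 t := fun a => Subgroup.mem_centralizer_singleton_iff.1 a.2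
  have := pe4_zm' (G := C1[t]) (t := ⟨t, m (Commute.refl t)⟩) (z := ⟨z, m cz⟩) (x := ⟨x, m cx⟩) (y := ⟨y, m cy⟩)
    (fun g => Subtype.ext (m' g)) (Subtype.ext ht) (Subtype.ext hz) (fun e => h1 (congrArg Subtype.val e))
    (fun e => h2 (congrArg Subtype.val e)) (Subtype.ext hx) (Subtype.ext hy)
    (fun g e => (iso g (m' g) (e.imp (congrArg Subtype.val) (congrArg Subtype.val))).imp Subtype.ext Subtype.ext)
    (fun u hu k e => Subtype.ext (H u (hu.imp (congrArg Subtype.val) (Or.imp (congrArg Subtype.val) (congrArg Subtype.val))) k (m' k)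
      (e.imp (congrArg Subtype.val) (congrArg Subtype.val)))) ⟨g, m hg⟩
  exact this.imp (congrArg Subtype.val) (congrArg Subtype.val)

/-- Enumeration of the injective maps commuting with `pv`. -/
theorem pe4_enum (Q : (Fin 8 → Fin 8) → Prop)
    (h : ∀ a3 : Fin 8, pv.1 a3 ≠ a3 → ∀ a5 : Fin 8, pv.1 a5 ≠ a5 → a5 ≠ a3 → a5 ≠ pv.1 a3 →
      ∀ a0 : Fin 8, pv.1 a0 = a0 → ∀ a1 : Fin 8, pv.1 a1 = a1 → a1 ≠ a0 → ∀ a2 : Fin 8, pv.1 a2 = a2 → a2 ≠ a0 → a2 ≠ a1 →
      ∀ a7 : Fin 8, pv.1 a7 = a7 → a7 ≠ a0 → a7 ≠ a1 → a7 ≠ a2 → Q ![a0, a1, a2, a3, pv.1 a3, a5, pv.1 a5, a7])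
    (i : A8) (c : i * pv = pv * i) : Q i.1 := by
  have c' : ∀ x, i.1 (pv.1 x) = pv.1 (i.1 x) := fun x => by
    have := congrArg (fun s : A8 => s.1 x) c
    simpa using this
  have inj := i.1.injective
  have p0 : pv.1 0 = 0 := by decide +kernel
  have p1 : pv.1 1 = 1 := by decide +kernel
  have p2 : pv.1 2 = 2 := by decide +kernel
  have p3 : pv.1 3 = 4 := by decide +kernel
  have p5 : pv.1 5 = 6 := by decide +kernel
  have p7 : pv.1 7 = 7 := by decide +kernel
  have q3 : pv.1 (i.1 3) = i.1 4 := by rw [← c', p3]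
  have q5 : pv.1 (i.1 5) = i.1 6 := by rw [← c', p5]
  have := h (i.1 3) (by rw [q3]; exact inj.ne (by decide)) (i.1 5) (by rw [q5]; exact inj.ne (by decide))
    (inj.ne (by decide)) (by rw [q3]; exact inj.ne (by decide)) (i.1 0) (by rw [← c', p0]) (i.1 1) (by rw [← c', p1])
    (inj.ne (by decide)) (i.1 2) (by rw [← c', p2]) (inj.ne (by decide)) (inj.ne (by decide)) (i.1 7) (by rw [← c', p7])
    (inj.ne (by decide)) (inj.ne (by decide)) (inj.ne (by decide))
  rw [q3, q5] at this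
  have e : (i.1 : Fin 8 → Fin 8) = ![i.1 0, i.1 1, i.1 2, i.1 3, i.1 4, i.1 5, i.1 6, i.1 7] := by
    funext x; fin_cases x <;> rfl
  rw [e]; exact this

theorem pe4_ext {i j : A8} (h : ∀ x, i.1 x = j.1 x) : i = j := Subtype.ext (Equiv.ext h)

theorem pe4_app {i j : A8} (h : i = j) (x : Fin 8) : i.1 x = j.1 x := by rw [h]

theorem pe4_A {u : A8} (hu : u = pe ∨ u = pv2 * pw2 ∨ u = pe * (pv2 * pw2)) (i : A8) (c : i * pv = pv * i)
    (d : i * u = u * i) : i ^ 4 = 1 := by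
  have := pe4_enum (fun f => ∀ u : A8, u = pe ∨ u = pv2 * pw2 ∨ u = pe * (pv2 * pw2) → (∀ x, f (u.1 x) = u.1 (f x)) →
    ∀ x, f (f (f (f x))) = x) (by simp only [forall_eq_or_imp, forall_eq]; decide +kernel) i c u hu
    (fun x => by simpa using pe4_app d x)
  refine pe4_ext fun x => ?_
  simpa [pow_succ] using this x

/-- Auxiliary predicate. -/
def pe4K (k : A8) (f : Fin 8 → Fin 8) : Prop := (∀ x, k.1 (f x) = f (k.1 x)) ∧ ∃ x, k.1 (f x) = x

instance pe4K_dec (k : A8) (f : Fin 8 → Fin 8) : Decidable (pe4K k f) := by unfold pe4K; infer_instance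

/-- Auxiliary predicate. -/
def pe4Q (f : Fin 8 → Fin 8) : Prop := (∀ x, f (f x) = x) → (∃ x, f x = x) → (∃ x, f (pv.1 x) = x) → (∀ x, f x = x) ∨
    (∀ x, f x = pv.1 x) ∨ (∀ x, f x = pv2.1 x) ∨ (∀ x, f x = (pv2 * pv).1 x) ∨
    pe4K pw f ∨ pe4K pw2 f ∨ pe4K (pw * pw2) f

instance pe4Q_dec (f : Fin 8 → Fin 8) : Decidable (pe4Q f) := by unfold pe4Q; infer_instance

set_option synthInstance.maxSize 100000 in
set_option synthInstance.maxHeartbeats 400000 in
theorem pe4_B (i : A8) (c : i * pv = pv * i) (ii : i * i = 1) (f1 : fp i) (f2 : fp (i * pv)) (n1 : i ≠ 1) (n2 : i ≠ pv) :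
    i = pv2 ∨ i = pv2 * pv ∨ ∃ k : A8, (k = pw ∨ k = pw2 ∨ k = pw * pw2) ∧ k * i = i * k ∧ fp (k * i) := by
  have := pe4_enum pe4Q (by decide +kernel) i c (fun x => by simpa using pe4_app ii x) f1 f2
  rcases this with h | h | h | h | ⟨h, h'⟩ | ⟨h, h'⟩ | ⟨h, h'⟩
  · exact absurd (pe4_ext h) n1
  · exact absurd (pe4_ext h) n2
  · exact .inl (pe4_ext h)
  · exact .inr (.inl (pe4_ext h))
  · exact .inr (.inr ⟨_, .inl rfl, pe4_ext h, h'⟩)
  · exact .inr (.inr ⟨_, .inr (.inl rfl), pe4_ext h, h'⟩)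
  · exact .inr (.inr ⟨_, .inr (.inr rfl), pe4_ext h, h'⟩)

theorem pe4_C (i : A8) (c : i * pv = pv * i) (d : i * pv2 = pv2 * i) (ii : i * i = 1) (f1 : fp i) (f2 : ¬ fp (i * pv))
    (f3 : fp (i * pv2)) : False := by
  have := pe4_enum (fun f => (∀ x, f (pv2.1 x) = pv2.1 (f x)) → (∀ x, f (f x) = x) → (∃ x, f x = x) →
    (∃ x, f (pv2.1 x) = x) → ∃ x, f (pv.1 x) = x) (by decide +kernel) i c (fun x => by simpa using pe4_app d x)
    (fun x => by simpa using pe4_app ii x) f1 f3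
  exact f2 this

theorem F2.cv_of {φ : A8 →* G} (h : F2 φ)
    (nf : ∀ {i j : A8}, orderOf i = 2 → orderOf j = 2 → IsConj (φ i) (φ j) → (fp i ↔ fp j))
    (cV : ∀ g, g * φ pv = φ pv * g → g * φ pv2 = φ pv2 * g → g ∈ φ.range)
    (nV : ∀ g, g * φ pv * g⁻¹ ∈ (closure {pv, pv2}).map φ → g * φ pv2 * g⁻¹ ∈ (closure {pv, pv2}).map φ → g ∈ φ.range)
    (cT : ∀ g, g * φ pe = φ pe * g → g ∈ φ.range) : ∀ g, g * φ pv = φ pv * g → g ∈ φ.range := by
  have nf' : ∀ {i j : A8} (g : G), i * i = 1 → g * φ i * g⁻¹ = φ j → (fp i ↔ fp j) := fun {i j} g ii e => by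
    by_cases i1 : i = 1
    · have : j = 1 := h.inj (by rw [← e, i1]; simp)
      rw [i1, this]
    · have oi : orderOf i = 2 := orderOf_eq_prime (by rw [sq, ii]) i1
      have c : IsConj (φ i) (φ j) := isConj_iff.2 ⟨g, e⟩
      refine nf oi ?_ c
      rw [← orderOf_injective φ h.inj, ← e, ← MulAut.conj_apply, MulEquiv.orderOf_eq, orderOf_injective φ h.inj, oi]
  have m1 : pv ∈ closure ({pv, pv2} : Set A8) := subset_closure (by simp)
  have m2 : pv2 ∈ closure ({pv, pv2} : Set A8) := subset_closure (by simp)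
  have nV' : ∀ g, Commute g (φ pv) → g * φ pv2 * g⁻¹ = φ pv2 ∨ g * φ pv2 * g⁻¹ = φ pv2 * φ pv → g ∈ φ.range :=
    fun g c e => by
      refine nV g ⟨pv, m1, by rw [c.eq, mul_inv_cancel_right]⟩ ?_
      rcases e with e | e <;> rw [e]
      · exact ⟨pv2, m2, rfl⟩
      · exact ⟨pv2 * pv, mul_mem m2 m1, map_mul _ _ _⟩
  have vv : pv * pv = 1 := by decide +kernel
  have v2 : pv2 * pv2 = 1 := by decide +kernel
  have tt : φ pv * φ pv = 1 := by rw [← map_mul, vv, map_one]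
  have zz : φ pv2 * φ pv2 = 1 := by rw [← map_mul, v2, map_one]
  have cm : ∀ {a b : A8}, a * b = b * a → Commute (φ a) (φ b) := fun e => by
    unfold Commute SemiconjBy; rw [← map_mul, e, map_mul]
  have zt : Commute (φ pv2) (φ pv) := cm (by decide +kernel)
  intro g hg
  refine nV' g hg (pe4_zm (x := φ pe) (y := φ (pv2 * pw2)) tt zz
    (fun e => absurd (h.inj (e.trans (map_one φ).symm)) (by decide +kernel)) (fun e => absurd (h.inj e) (by decide +kernel))
    (by rw [← map_mul, show pe * pe = 1 by decide +kernel, map_one])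
    (by rw [← map_mul, show pv2 * pw2 * (pv2 * pw2) = 1 by decide +kernel, map_one]) zt (cm (by decide +kernel))
    (cm (by decide +kernel)) ?_ ?_ hg)
  · intro g c e
    have cw : Commute (g * φ pv2 * g⁻¹) (φ pv) := (c.mul_left zt).mul_left c.inv_left
    obtain ⟨i, hi⟩ : g * φ pv2 * g⁻¹ ∈ φ.range := by
      refine nV' _ cw ?_
      have ww : (g * φ pv2 * g⁻¹) * (g * φ pv2 * g⁻¹) = 1 := by
        calc _ = g * (φ pv2 * φ pv2) * g⁻¹ := by group
          _ = 1 := by rw [zz]; group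
      generalize g * φ pv2 * g⁻¹ = w at e cw ww
      rw [← eq_inv_of_mul_eq_one_left ww]
      rcases e with e | e
      · left; rw [← e, mul_assoc, ww, mul_one]
      · right
        have : w * φ pv2 = φ pv2 * w * φ pv := by rw [e, mul_assoc _ (φ pv), tt, mul_one]
        rw [this, mul_assoc, mul_assoc, ← cw.eq, ← mul_assoc w, ww, one_mul]
    have e2 : g * φ (pv2 * pv) * g⁻¹ = φ (i * pv) := by
      rw [map_mul, map_mul, hi, mul_assoc (g * φ pv2) g⁻¹, c.inv_left.eq]; group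
    have f1 : fp i := (nf' g v2 hi.symm).1 (by decide +kernel)
    have f2 : fp (i * pv) := (nf' g (by decide +kernel) e2).1 (by decide +kernel)
    have ii : i * i = 1 := h.inj (by
      rw [map_mul, hi, map_one]
      calc _ = g * (φ pv2 * φ pv2) * g⁻¹ := by group
        _ = 1 := by rw [zz]; group)
    have ci : i * pv = pv * i := h.inj (by rw [map_mul, map_mul, hi, cw.eq])
    have n1 : i ≠ 1 := fun e => by
      rw [e, map_one] at hi
      have : φ pv2 = φ 1 := by rw [map_one]; calc _ = g⁻¹ * (g * φ pv2 * g⁻¹) * g := by group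
        _ = 1 := by rw [← hi]; group
      exact absurd (h.inj this) (by decide +kernel)
    have n2 : i ≠ pv := fun e => by
      rw [e] at hi
      have : φ pv2 = φ pv := by
        calc _ = g⁻¹ * (g * φ pv2 * g⁻¹) * g := by group
          _ = _ := by rw [← hi, c.inv_left.eq]; group
      exact absurd (h.inj this) (by decide +kernel)
    rcases pe4_B i ci ii f1 f2 n1 n2 with e | e | ⟨k, hk, ki, fk⟩
    · exact .inl (by rw [← hi, e])
    · exact .inr (by rw [← hi, e, map_mul])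
    exfalso
    have K : k * k = 1 ∧ k * pv = pv * k ∧ fp k ∧ ¬ fp (k * pv) := by
      rcases hk with rfl | rfl | rfl <;> decide +kernel
    obtain ⟨kk, kv, fk1, fk2⟩ := K
    have c1 : Commute (g⁻¹ * φ k * g) (φ pv) := (c.inv_left.mul_left (cm kv)).mul_left c
    have c2 : g⁻¹ * φ k * g * φ pv2 = φ pv2 * (g⁻¹ * φ k * g) := by
      have := (cm ki).eq
      rw [hi] at this
      calc _ = g⁻¹ * (φ k * (g * φ pv2 * g⁻¹)) * g := by group
        _ = _ := by rw [this]; group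
    obtain ⟨k0, hk0⟩ := cV _ c1.eq c2
    have kiki : k * i * (k * i) = 1 := by
      calc _ = k * (i * k) * i := by group
        _ = k * k * (i * i) := by rw [← ki]; group
        _ = 1 := by rw [kk, ii, one_mul]
    have kvkv : k * pv * (k * pv) = 1 := by
      calc _ = k * (pv * k) * pv := by group
        _ = k * k * (pv * pv) := by rw [← kv]; group
        _ = 1 := by rw [kk, vv, one_mul]
    refine pe4_C k0 (h.inj (by rw [map_mul, map_mul, hk0, c1.eq])) (h.inj (by rw [map_mul, map_mul, hk0, c2]))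
      (h.inj ?_) ((nf' g⁻¹ kk (by rw [hk0, inv_inv])).1 fk1) (fun f => fk2 ((nf' g⁻¹ kvkv ?_).2 f))
      ((nf' g⁻¹ kiki ?_).1 fk)
    · rw [map_mul, hk0, map_one]
      calc _ = g⁻¹ * (φ k * φ k) * g := by group
        _ = 1 := by rw [← map_mul, kk, map_one]; group
    · rw [map_mul, map_mul, hk0, inv_inv, mul_assoc _ g, c.eq]; group
    · rw [map_mul, map_mul, hk0, hi]; group
  · intro u hu k c e
    obtain ⟨u0, hu0, rfl⟩ : ∃ u0 : A8, (u0 = pe ∨ u0 = pv2 * pw2 ∨ u0 = pe * (pv2 * pw2)) ∧ u = φ u0 := by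
      rcases hu with rfl | rfl | rfl
      exacts [⟨_, .inl rfl, rfl⟩, ⟨_, .inr (.inl rfl), rfl⟩, ⟨_, .inr (.inr rfl), (map_mul _ _ _).symm⟩]
    obtain ⟨d, hd⟩ : ∃ d : A8, d * pe * d⁻¹ = u0 := by
      rcases hu0 with rfl | rfl | rfl
      · exact ⟨1, by simp⟩
      · exact ⟨py * pz, by decide +kernel⟩
      · exact ⟨py * pz * (py * pz), by decide +kernel⟩
    have c2 : k * k * φ u0 = φ u0 * (k * k) := by
      rw [← mul_inv_eq_iff_eq_mul]
      rcases e with e | e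
      · calc _ = k * (k * φ u0 * k⁻¹) * k⁻¹ := by group
          _ = _ := by rw [e, e]
      · calc _ = k * (k * φ u0 * k⁻¹) * k⁻¹ := by group
          _ = k * (φ u0 * φ pv) * k⁻¹ := by rw [e]
          _ = (k * φ u0 * k⁻¹) * (k * φ pv * k⁻¹) := by group
          _ = _ := by rw [e, c.eq, mul_inv_cancel_right, mul_assoc, tt, mul_one]
    obtain ⟨j, hj⟩ := cT ((φ d)⁻¹ * (k * k) * φ d) (by
      rw [← hd, map_mul, map_mul, map_inv] at c2
      calc _ = (φ d)⁻¹ * (k * k * (φ d * φ pe * (φ d)⁻¹)) * φ d := by group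
        _ = _ := by rw [c2]; group)
    have hj' : φ (d * j * d⁻¹) = k * k := by rw [map_mul, map_mul, map_inv, hj]; group
    have := pe4_A hu0 (d * j * d⁻¹) (h.inj (by rw [map_mul _ _ pv, map_mul _ pv, hj', (c.mul_left c).eq]))
      (h.inj (by rw [map_mul _ _ u0, map_mul _ u0, hj', c2]))
    have e4 : (k * k) ^ 4 = 1 := by rw [← hj', ← map_pow, this, map_one]
    rw [← sq, ← pow_mul] at e4
    exact e4

theorem F2.cv' {φ : A8 →* G} (h : F2 φ)
    (cV : ∀ g, g * φ pv = φ pv * g → g * φ pv2 = φ pv2 * g → g ∈ φ.range)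
    (nV : ∀ g, g * φ pv * g⁻¹ ∈ (closure {pv, pv2}).map φ → g * φ pv2 * g⁻¹ ∈ (closure {pv, pv2}).map φ → g ∈ φ.range)
    (cT : ∀ g, g * φ pe = φ pe * g → g ∈ φ.range) : ∀ g, g * φ pv = φ pv * g → g ∈ φ.range :=
  h.cv_of (fun hi hj c => h.nf hi hj c) cV nV cT

end Cfsg.Agent.A8R
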