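import Cfsg.Agent.A8R.PN

/-! PE5 core: surjectivity of the frame map (helper11). -/

set_option autoImplicit false

namespace Cfsg.Agent.A8R

open Equiv Subgroup

variable {G : Type*} [Group G]

theorem pe5_inv_pow {u x : G} (h : u * x * u⁻¹ = x⁻¹) (k : ℕ) :
    u * x ^ k * u⁻¹ = (x ^ k)⁻¹ := by
  rw [← conj_pow, h, inv_pow]

/-- Two non-conjugate involutions have a common commuting involution. -/
theorem pe5_dih [Finite G] {u s : G} (hu : u * u = 1) (hs : s * s = 1) (hn : ¬ IsConj u s) :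
    ∃ c : G, orderOf c = 2 ∧ c * u = u * c ∧ c * s = s * c := by
  have ui : u⁻¹ = u := inv_eq_of_mul_eq_one_right hu
  have si : s⁻¹ = s := inv_eq_of_mul_eq_one_right hs
  obtain ⟨x, hx⟩ : ∃ x, x = u * s := ⟨_, rfl⟩
  have hux : u * x * u⁻¹ = x⁻¹ := by
    rw [hx, mul_inv_rev, ui, si, ← mul_assoc, hu, one_mul]
  have hsx : s = u * x := by rw [hx, ← mul_assoc, hu, one_mul]
  have hpos : 0 < orderOf x := orderOf_pos x
  rcases Nat.even_or_odd' (orderOf x) with ⟨k, hk | hk⟩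
  · have hk0 : k ≠ 0 := by omega
    have h2 : x ^ k * x ^ k = 1 := by
      rw [← pow_add, ← two_mul, ← hk, pow_orderOf_eq_one]
    have h1 : x ^ k ≠ 1 := pow_ne_one_of_lt_orderOf hk0 (by omega)
    have hi : (x ^ k)⁻¹ = x ^ k := inv_eq_of_mul_eq_one_right h2
    have hcu : x ^ k * u = u * x ^ k := by
      have := pe5_inv_pow hux k
      rw [hi] at this
      calc x ^ k * u = (u * x ^ k * u⁻¹) * u := by rw [this]
        _ = u * x ^ k := by rw [inv_mul_cancel_right]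
    refine ⟨x ^ k, orderOf_eq_prime (by rw [pow_two]; exact h2) h1, hcu, ?_⟩
    rw [hsx, ← mul_assoc, hcu, mul_assoc, mul_assoc, ← pow_succ, ← pow_succ']
  · exfalso
    apply hn
    have h1 : x ^ k * x ^ k * x = 1 := by
      rw [← pow_add, ← two_mul, ← pow_succ, ← hk, pow_orderOf_eq_one]
    have h2 := pe5_inv_pow hux k
    generalize x ^ k = y at h1 h2
    have h5 : u * y⁻¹ * u⁻¹ = y := by
      calc u * y⁻¹ * u⁻¹ = (u * y * u⁻¹)⁻¹ := by group
        _ = y := by rw [h2, inv_inv]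
    have h6 : x = (y * y)⁻¹ := eq_inv_of_mul_eq_one_right h1
    refine isConj_iff.2 ⟨y, ?_⟩
    calc y * u * y⁻¹ = (u * y⁻¹ * u⁻¹) * u * y⁻¹ := by rw [h5]
      _ = u * (y * y)⁻¹ := by group
      _ = s := by rw [hsx, h6]

theorem pe5_ord_pt : orderOf pt = 2 :=
  orderOf_eq_prime (by decide +kernel) (by decide +kernel)

theorem pe5_ord_pv : orderOf pv = 2 :=
  orderOf_eq_prime (by decide +kernel) (by decide +kernel)

theorem pe5_ord_pe : orderOf pe = 2 :=
  orderOf_eq_prime (by decide +kernel) (by decide +kernel)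

theorem pe5_nfp_pe : ¬ fp pe := by decide +kernel

theorem pe5_cent {φ : A8 →* G} {i j : A8} (hc : IsConj i j)
    (hj : ∀ g, g * φ j = φ j * g → g ∈ φ.range) :
    ∀ g, g * φ i = φ i * g → g ∈ φ.range := by
  intro g hg
  obtain ⟨c, hc⟩ := isConj_iff.1 hc
  have h1 : φ c * g * (φ c)⁻¹ ∈ φ.range := by
    apply hj
    rw [← hc, map_mul, map_mul, map_inv]
    calc φ c * g * (φ c)⁻¹ * (φ c * φ i * (φ c)⁻¹) = φ c * (g * φ i) * (φ c)⁻¹ := by group
      _ = φ c * (φ i * g) * (φ c)⁻¹ := by rw [hg]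
      _ = φ c * φ i * (φ c)⁻¹ * (φ c * g * (φ c)⁻¹) := by group
  have h2 : φ c ∈ φ.range := ⟨c, rfl⟩
  have h3 := φ.range.mul_mem (φ.range.mul_mem (φ.range.inv_mem h2) h1) h2
  have h4 : (φ c)⁻¹ * (φ c * g * (φ c)⁻¹) * φ c = g := by group
  rwa [h4] at h3

/-- PE5 with the class list of the involutions of `A8` as a hypothesis. -/
theorem F2.surj_of_cls [Finite G] {φ : A8 →* G} (h : F2 φ)
    (cls : ∀ i : A8, orderOf i = 2 → (fp i ∧ IsConj i pv) ∨ (¬ fp i ∧ IsConj i pt))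
    (cT : ∀ g, g * φ pe = φ pe * g → g ∈ φ.range)
    (cv' : ∀ g, g * φ pv = φ pv * g → g ∈ φ.range) : Function.Surjective φ := by
  have pet : IsConj pe pt := by
    rcases cls pe pe5_ord_pe with ⟨h1, _⟩ | ⟨_, h2⟩
    · exact absurd h1 pe5_nfp_pe
    · exact h2
  have cent : ∀ i : A8, orderOf i = 2 → ∀ g, g * φ i = φ i * g → g ∈ φ.range := by
    intro i hi
    rcases cls i hi with ⟨_, h1⟩ | ⟨_, h2⟩
    · exact pe5_cent h1 cv'
    · exact pe5_cent (h2.trans pet.symm) cT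
  have fus : ∀ i j : A8, orderOf i = 2 → orderOf j = 2 → IsConj (φ i) (φ j) → IsConj i j := by
    intro i j hi hj c
    rcases cls i hi with ⟨_, h1⟩ | ⟨_, h1⟩ <;> rcases cls j hj with ⟨_, h2⟩ | ⟨_, h2⟩
    · exact h1.trans h2.symm
    · exact absurd (((φ.map_isConj h2).symm.trans c.symm).trans (φ.map_isConj h1)) h.nc
    · exact absurd (((φ.map_isConj h1).symm.trans c).trans (φ.map_isConj h2)) h.nc
    · exact h1.trans h2.symm
  intro g
  have hu : φ pt * φ pt = 1 := by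
    rw [← map_mul, show pt * pt = 1 by decide +kernel, map_one]
  have hv : φ pv * φ pv = 1 := by
    rw [← map_mul, show pv * pv = 1 by decide +kernel, map_one]
  have hs : (g * φ pv * g⁻¹) * (g * φ pv * g⁻¹) = 1 := by
    calc (g * φ pv * g⁻¹) * (g * φ pv * g⁻¹) = g * (φ pv * φ pv) * g⁻¹ := by group
      _ = 1 := by rw [hv]; group
  have hn : ¬ IsConj (φ pt) (g * φ pv * g⁻¹) := fun c =>
    h.nc (c.trans (isConj_iff.2 ⟨g, rfl⟩ : IsConj (φ pv) (g * φ pv * g⁻¹)).symm)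
  obtain ⟨c, hc, hcu, hcs⟩ := pe5_dih hu hs hn
  obtain ⟨i, hi⟩ := cent pt pe5_ord_pt c hcu
  have hd : (g⁻¹ * c * g) * φ pv = φ pv * (g⁻¹ * c * g) := by
    calc (g⁻¹ * c * g) * φ pv = g⁻¹ * (c * (g * φ pv * g⁻¹)) * g := by group
      _ = g⁻¹ * ((g * φ pv * g⁻¹) * c) * g := by rw [hcs]
      _ = φ pv * (g⁻¹ * c * g) := by group
  obtain ⟨j, hj⟩ := cv' _ hd
  have cij : IsConj (φ j) (φ i) := by
    refine isConj_iff.2 ⟨g, ?_⟩
    rw [hi, hj]; group
  have oi : orderOf i = 2 := by rw [← orderOf_injective φ h.inj, hi, hc]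
  have oj : orderOf j = 2 := by
    rw [← orderOf_injective φ h.inj, hj]
    have : g⁻¹ * c * g = g⁻¹ * c * g⁻¹⁻¹ := by rw [inv_inv]
    rw [this, ← hc]
    exact (orderOf_injective (MulAut.conj g⁻¹).toMonoidHom (MulAut.conj g⁻¹).injective c)
  obtain ⟨k, hk⟩ := isConj_iff.1 (fus j i oj oi cij)
  have hm : g * (φ k)⁻¹ ∈ φ.range := by
    apply cent i oi
    have e1 : φ i = φ k * φ j * (φ k)⁻¹ := by rw [← hk, map_mul, map_mul, map_inv]
    have e2 : φ i = g * φ j * g⁻¹ := by rw [hi, hj]; group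
    calc g * (φ k)⁻¹ * φ i = g * (φ k)⁻¹ * (φ k * φ j * (φ k)⁻¹) := by rw [← e1]
      _ = (g * φ j * g⁻¹) * (g * (φ k)⁻¹) := by group
      _ = φ i * (g * (φ k)⁻¹) := by rw [← e2]
  have hk' : φ k ∈ φ.range := ⟨k, rfl⟩
  have := φ.range.mul_mem hm hk'
  rw [inv_mul_cancel_right] at this
  exact this

/-- PE5. -/
theorem F2.surj [Finite G] {φ : A8 →* G} (h : F2 φ)
    (cT : ∀ g, g * φ pe = φ pe * g → g ∈ φ.range)
    (cv' : ∀ g, g * φ pv = φ pv * g → g ∈ φ.range) : Function.Surjective φ :=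
  h.surj_of_cls (fun i hi => cls i hi) cT cv'

end Cfsg.Agent.A8R
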